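import Mathlib
import Cfsg.Agent.Lib.Helper14.LeechMono
import Cfsg.Agent.Lib.Helper14.Co0Center
import Cfsg.Agent.Lib.Helper3.Co1.Stem
import Cfsg.Agent.Lib.Helper3.Co1.Gens
import Cfsg.Agent.Lib.Helper3.Fus.M24Data

set_option autoImplicit false

/-!
The monomial subgroup `2^12 : M24` of `Co0` (the stabiliser of the standard cross) and its image
`2^11 : M24` in `Co1`, parametrised by pairs (permutation in `M24`, code word): multiplication law,
kernel, the elementary abelian subgroup of sign changes.  Basic definitions for `Out(Co1) = 1`.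
-/

namespace Cfsg.Agent.Lib.Helper10.Co1O

open Cfsg
open Cfsg.Agent.Lib.Helper14.LeechMono
open Cfsg.Agent.Lib.Helper14.Co0Center
open Cfsg.Agent.Lib.Helper3.Golay

/-- the action of `M24` on the code words -/
def actW (σ : ↥M24) (w : ↥golayCode) : ↥golayCode :=
  ⟨permWord σ.1 w.1, (mem_M24_iff σ.1).mp σ.2 w.1 w.2⟩

theorem actW_apply (σ : ↥M24) (w : ↥golayCode) (i : GolayPt) :
    (actW σ w).1 i = w.1 (σ.1.symm i) := rfl

theorem actW_one (w : ↥golayCode) : actW 1 w = w := Subtype.ext (funext fun _ => rfl)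

theorem actW_mul (σ τ : ↥M24) (w : ↥golayCode) : actW (σ * τ) w = actW σ (actW τ w) :=
  Subtype.ext (funext fun _ => rfl)

theorem actW_add (σ : ↥M24) (w u : ↥golayCode) : actW σ (w + u) = actW σ w + actW σ u :=
  Subtype.ext (funext fun _ => rfl)

theorem actW_zero (σ : ↥M24) : actW σ 0 = 0 := Subtype.ext (funext fun _ => rfl)

/-- the all-ones word -/
def oneW : ↥golayCode :=
  ⟨1, Submodule.subset_span (Set.mem_union_right _ rfl)⟩

theorem oneW_apply (i : GolayPt) : oneW.1 i = 1 := rfl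

theorem actW_oneW (σ : ↥M24) : actW σ oneW = oneW := Subtype.ext (funext fun _ => rfl)

/-- the monomial element of `Co0` attached to a permutation in `M24` and a code word -/
noncomputable def monoC (σ : ↥M24) (w : ↥golayCode) : ↥Co0 := ⟨mono σ w, mono_mem_Co0 σ w⟩

theorem monoC_apply (σ : ↥M24) (w : ↥golayCode) (v : ↥leechLattice) (i : GolayPt) :
    (((monoC σ w : ↥Co0) : Equiv.Perm ↥leechLattice) v : GolayPt → ℤ) i =
      if w.1 i ≠ 0 then -(v : GolayPt → ℤ) (σ.1.symm i) else (v : GolayPt → ℤ) (σ.1.symm i) := by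
  show signedPerm σ.1 (support₂ w.1) v.1 i = _
  unfold signedPerm
  by_cases h : w.1 i ≠ 0
  · rw [if_pos h, if_pos (mem_support₂.mpr h)]
  · rw [if_neg h, if_neg (fun h' => h (mem_support₂.mp h'))]

theorem zmod2_add_ne : ∀ a b : ZMod 2, (a + b ≠ 0) ↔ ¬ ((a ≠ 0) ↔ (b ≠ 0)) := by decide

theorem monoC_mul (σ τ : ↥M24) (w u : ↥golayCode) :
    monoC σ w * monoC τ u = monoC (σ * τ) (w + actW σ u) := by
  apply Subtype.ext
  apply Equiv.ext
  intro v
  apply Subtype.ext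
  funext i
  show (((monoC σ w : ↥Co0) : Equiv.Perm ↥leechLattice)
    (((monoC τ u : ↥Co0) : Equiv.Perm ↥leechLattice) v) : GolayPt → ℤ) i = _
  rw [monoC_apply, monoC_apply, monoC_apply]
  have h1 : (w + actW σ u).1 i = w.1 i + u.1 (σ.1.symm i) := rfl
  have h2 : (σ * τ).1.symm i = τ.1.symm (σ.1.symm i) := rfl
  rw [h1, h2]
  have key := zmod2_add_ne (w.1 i) (u.1 (σ.1.symm i))
  by_cases ha : w.1 i ≠ 0 <;> by_cases hb : u.1 (σ.1.symm i) ≠ 0
  · rw [if_pos ha, if_pos hb, if_neg (by rw [key]; tauto)]; ring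
  · rw [if_pos ha, if_neg hb, if_pos (by rw [key]; tauto)]
  · rw [if_neg ha, if_pos hb, if_pos (by rw [key]; tauto)]
  · rw [if_neg ha, if_neg hb, if_neg (by rw [key]; tauto)]

theorem monoC_one : monoC 1 0 = 1 := by
  apply Subtype.ext
  apply Equiv.ext
  intro v
  apply Subtype.ext
  funext i
  show (((monoC 1 0 : ↥Co0) : Equiv.Perm ↥leechLattice) v : GolayPt → ℤ) i = _
  rw [monoC_apply]
  rw [if_neg (by simp)]
  rfl

theorem monoC_oneW : monoC 1 oneW = negC := by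
  apply Subtype.ext
  apply Equiv.ext
  intro v
  apply Subtype.ext
  funext i
  show (((monoC 1 oneW : ↥Co0) : Equiv.Perm ↥leechLattice) v : GolayPt → ℤ) i = _
  rw [monoC_apply, oneW_apply, if_pos (by decide)]
  rfl

theorem monoC_injective (σ τ : ↥M24) (w u : ↥golayCode) (h : monoC σ w = monoC τ u) :
    σ = τ ∧ w = u := by
  have h1 : Phi (σ, w) = Phi (τ, u) := Subtype.ext h
  have h2 := Phi_injective h1
  exact ⟨congrArg Prod.fst h2, congrArg Prod.snd h2⟩

theorem monoC_inv (σ : ↥M24) (w : ↥golayCode) : (monoC σ w)⁻¹ = monoC σ⁻¹ (actW σ⁻¹ w) := by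
  rw [inv_eq_iff_mul_eq_one, monoC_mul, ← actW_mul, mul_inv_cancel, actW_one]
  have : w + w = 0 := by
    apply Subtype.ext
    funext i
    show w.1 i + w.1 i = 0
    exact CharTwo.add_self_eq_zero _
  rw [this, monoC_one]

/-- the stabiliser of the standard cross in `Co0`: the monomial group `2^12 : M24` -/
noncomputable def Nt : Subgroup ↥Co0 where
  carrier := {g | ∃ σ w, monoC σ w = g}
  one_mem' := ⟨1, 0, monoC_one⟩
  mul_mem' := by
    rintro _ _ ⟨σ, w, rfl⟩ ⟨τ, u, rfl⟩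
    exact ⟨_, _, (monoC_mul σ τ w u).symm⟩
  inv_mem' := by
    rintro _ ⟨σ, w, rfl⟩
    exact ⟨_, _, (monoC_inv σ w).symm⟩

theorem mem_Nt_iff (g : ↥Co0) : g ∈ Nt ↔ ∃ σ w, monoC σ w = g := Iff.rfl

theorem monoC_mem_Nt (σ : ↥M24) (w : ↥golayCode) : monoC σ w ∈ Nt := ⟨σ, w, rfl⟩

/-- an element of `Co0` preserving the standard cross is monomial -/
theorem mem_Nt_of_std (g : ↥Co0)
    (h : ∀ v : ↥leechLattice, (v : GolayPt → ℤ) ∈ stdCross →
      ((g • v : ↥leechLattice) : GolayPt → ℤ) ∈ stdCross) : g ∈ Nt := by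
  obtain ⟨⟨σ, w⟩, hp⟩ := Phi_surjective ⟨g, h⟩
  exact ⟨σ, w, congrArg Subtype.val hp⟩

theorem negC_mem_Nt : negC ∈ Nt := ⟨1, oneW, monoC_oneW⟩

/-- the sign changes: the normal subgroup `2^12` of `Nt` -/
noncomputable def Et : Subgroup ↥Co0 where
  carrier := {g | ∃ w, monoC 1 w = g}
  one_mem' := ⟨0, monoC_one⟩
  mul_mem' := by
    rintro _ _ ⟨w, rfl⟩ ⟨u, rfl⟩
    exact ⟨w + u, by rw [monoC_mul, mul_one, actW_one]⟩
  inv_mem' := by
    rintro _ ⟨w, rfl⟩
    exact ⟨w, by rw [monoC_inv, inv_one, actW_one]⟩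

/-! ### the images in `Co1` -/

open Cfsg.Agent.Lib.Helper3.Co1Stem

/-- the monomial element of `Co1` -/
noncomputable def mon (σ : ↥M24) (w : ↥golayCode) : Cfsg.Spor.Co1 := toCo1 (monoC σ w)

theorem mon_mul (σ τ : ↥M24) (w u : ↥golayCode) :
    mon σ w * mon τ u = mon (σ * τ) (w + actW σ u) := by
  unfold mon
  rw [← map_mul, monoC_mul]

theorem mon_one : mon 1 0 = 1 := by
  unfold mon
  rw [monoC_one, map_one]

theorem toCo1_eq_one_iff (g : ↥Co0) : toCo1 g = 1 ↔ g = 1 ∨ g = negC := by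
  rw [← MonoidHom.mem_ker, ker_toCo1]
  constructor
  · exact center_elems g
  · rintro (rfl | rfl)
    · exact Subgroup.one_mem _
    · exact negC_mem_center

theorem mon_eq_one_iff (σ : ↥M24) (w : ↥golayCode) : mon σ w = 1 ↔ σ = 1 ∧ (w = 0 ∨ w = oneW) := by
  unfold mon
  rw [toCo1_eq_one_iff]
  constructor
  · rintro (h | h)
    · rw [← monoC_one] at h
      obtain ⟨h1, h2⟩ := monoC_injective _ _ _ _ h
      exact ⟨h1, Or.inl h2⟩
    · rw [← monoC_oneW] at h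
      obtain ⟨h1, h2⟩ := monoC_injective _ _ _ _ h
      exact ⟨h1, Or.inr h2⟩
  · rintro ⟨rfl, rfl | rfl⟩
    · exact Or.inl monoC_one
    · exact Or.inr monoC_oneW

theorem mon_inv (σ : ↥M24) (w : ↥golayCode) : (mon σ w)⁻¹ = mon σ⁻¹ (actW σ⁻¹ w) := by
  unfold mon
  rw [← map_inv, monoC_inv]

theorem mon_oneW : mon 1 oneW = 1 := (mon_eq_one_iff 1 oneW).mpr ⟨rfl, Or.inr rfl⟩

theorem mon_add_oneW (σ : ↥M24) (w : ↥golayCode) : mon σ (w + oneW) = mon σ w := by
  have h := mon_mul σ 1 w oneW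
  rw [mon_oneW, mul_one, mul_one, actW_oneW] at h
  exact h.symm

theorem add_self_code (w : ↥golayCode) : w + w = 0 := by
  apply Subtype.ext
  funext i
  show w.1 i + w.1 i = 0
  exact CharTwo.add_self_eq_zero _

theorem mon_eq_iff (σ τ : ↥M24) (w u : ↥golayCode) :
    mon σ w = mon τ u ↔ σ = τ ∧ (w = u ∨ w = u + oneW) := by
  constructor
  · intro h
    have h1 : mon (τ⁻¹ * σ) (actW τ⁻¹ u + actW τ⁻¹ w) = 1 := by
      rw [← mon_mul, ← mon_inv, h, inv_mul_cancel]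
    obtain ⟨h2, h3⟩ := (mon_eq_one_iff _ _).mp h1
    have hσ : σ = τ := by
      have := congrArg (fun x => τ * x) h2
      simpa using this
    refine ⟨hσ, ?_⟩
    rw [← actW_add] at h3
    have h4 : u + w = 0 ∨ u + w = oneW := by
      rcases h3 with h3 | h3
      · left
        have := congrArg (actW τ) h3
        rwa [← actW_mul, mul_inv_cancel, actW_one, actW_zero] at this
      · right
        have := congrArg (actW τ) h3
        rwa [← actW_mul, mul_inv_cancel, actW_one, actW_oneW] at this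
    rcases h4 with h4 | h4
    · left
      have : w = u + (u + w) := by rw [← add_assoc, add_self_code, zero_add]
      rw [this, h4, add_zero]
    · right
      have : w = u + (u + w) := by rw [← add_assoc, add_self_code, zero_add]
      rw [this, h4]
  · rintro ⟨rfl, rfl | rfl⟩
    · rfl
    · exact mon_add_oneW _ _

theorem mon_conj (σ : ↥M24) (w u : ↥golayCode) :
    mon σ w * mon 1 u * (mon σ w)⁻¹ = mon 1 (actW σ u) := by
  rw [mon_inv, mon_mul, mon_mul, mul_one, mul_inv_cancel, ← actW_mul, mul_inv_cancel, actW_one]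
  have : w + actW σ u + w = actW σ u := by
    rw [add_comm w (actW σ u), add_assoc, add_self_code, add_zero]
  rw [this]

theorem monoC_conj (σ : ↥M24) (w u : ↥golayCode) :
    monoC σ w * monoC 1 u * (monoC σ w)⁻¹ = monoC 1 (actW σ u) := by
  rw [monoC_inv, monoC_mul, monoC_mul, mul_one, mul_inv_cancel, ← actW_mul, mul_inv_cancel,
    actW_one]
  have : w + actW σ u + w = actW σ u := by
    rw [add_comm w (actW σ u), add_assoc, add_self_code, add_zero]
  rw [this]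

theorem monoC_mul_negC (σ : ↥M24) (w : ↥golayCode) : monoC σ w * negC = monoC σ (w + oneW) := by
  rw [← monoC_oneW, monoC_mul, mul_one, actW_oneW]

theorem toCo1_surjective : Function.Surjective toCo1 := QuotientGroup.mk'_surjective _

theorem negC_mul_self : negC * negC = 1 := by
  rw [← monoC_oneW, monoC_mul, mul_one, actW_one, add_self_code, monoC_one]

theorem toCo1_eq_iff (x y : ↥Co0) : toCo1 x = toCo1 y ↔ x = y ∨ x = y * negC := by
  have h : toCo1 x = toCo1 y ↔ toCo1 (y⁻¹ * x) = 1 := by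
    rw [map_mul, map_inv, inv_mul_eq_one, eq_comm]
  rw [h, toCo1_eq_one_iff]
  constructor
  · rintro (h1 | h1)
    · left; exact (inv_mul_eq_one.mp h1).symm
    · right; rw [← h1]; group
  · rintro (rfl | rfl)
    · left; group
    · right; group

/-- the image `2^11 : M24` of the monomial group in `Co1` -/
noncomputable def Nb : Subgroup Cfsg.Spor.Co1 := Nt.map toCo1

/-- the image `2^11` of the sign changes in `Co1` -/
noncomputable def Eb : Subgroup Cfsg.Spor.Co1 := Et.map toCo1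

theorem mem_Nb_iff (x : Cfsg.Spor.Co1) : x ∈ Nb ↔ ∃ σ w, mon σ w = x := by
  unfold Nb
  rw [Subgroup.mem_map]
  constructor
  · rintro ⟨g, ⟨σ, w, rfl⟩, rfl⟩
    exact ⟨σ, w, rfl⟩
  · rintro ⟨σ, w, rfl⟩
    exact ⟨monoC σ w, monoC_mem_Nt σ w, rfl⟩

theorem mem_Eb_iff (x : Cfsg.Spor.Co1) : x ∈ Eb ↔ ∃ w, mon 1 w = x := by
  unfold Eb
  rw [Subgroup.mem_map]
  constructor
  · rintro ⟨g, ⟨w, rfl⟩, rfl⟩
    exact ⟨w, rfl⟩
  · rintro ⟨w, rfl⟩
    exact ⟨monoC 1 w, ⟨w, rfl⟩, rfl⟩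

theorem mon_mem_Nb (σ : ↥M24) (w : ↥golayCode) : mon σ w ∈ Nb := (mem_Nb_iff _).mpr ⟨σ, w, rfl⟩

theorem mon_mem_Eb (w : ↥golayCode) : mon 1 w ∈ Eb := (mem_Eb_iff _).mpr ⟨w, rfl⟩

theorem Eb_le_Nb : Eb ≤ Nb := by
  intro x hx
  obtain ⟨w, rfl⟩ := (mem_Eb_iff x).mp hx
  exact mon_mem_Nb 1 w

/-- `Eb` is normalised by `Nb` -/
theorem conj_mem_Eb (n : Cfsg.Spor.Co1) (hn : n ∈ Nb) (e : Cfsg.Spor.Co1) (he : e ∈ Eb) :
    n * e * n⁻¹ ∈ Eb := by
  obtain ⟨σ, w, rfl⟩ := (mem_Nb_iff n).mp hn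
  obtain ⟨u, rfl⟩ := (mem_Eb_iff e).mp he
  rw [mon_conj]
  exact mon_mem_Eb _

/-- `Eb` has exponent 2 -/
theorem mul_self_of_mem_Eb (e : Cfsg.Spor.Co1) (he : e ∈ Eb) : e * e = 1 := by
  obtain ⟨u, rfl⟩ := (mem_Eb_iff e).mp he
  rw [mon_mul, mul_one, actW_one, add_self_code, mon_one]

/-- the elements of `Nb` whose permutation part lies in a subgroup `T` of `M24` -/
noncomputable def Sb (T : Subgroup ↥M24) : Subgroup Cfsg.Spor.Co1 where
  carrier := {x | ∃ σ ∈ T, ∃ w, mon σ w = x}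
  one_mem' := ⟨1, T.one_mem, 0, mon_one⟩
  mul_mem' := by
    rintro _ _ ⟨σ, hσ, w, rfl⟩ ⟨τ, hτ, u, rfl⟩
    exact ⟨σ * τ, T.mul_mem hσ hτ, _, (mon_mul σ τ w u).symm⟩
  inv_mem' := by
    rintro _ ⟨σ, hσ, w, rfl⟩
    exact ⟨σ⁻¹, T.inv_mem hσ, _, (mon_inv σ w).symm⟩

theorem mem_Sb_iff (T : Subgroup ↥M24) (x : Cfsg.Spor.Co1) :
    x ∈ Sb T ↔ ∃ σ ∈ T, ∃ w, mon σ w = x := Iff.rfl

theorem Sb_le_Nb (T : Subgroup ↥M24) : Sb T ≤ Nb := by
  rintro _ ⟨σ, -, w, rfl⟩
  exact mon_mem_Nb σ w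

theorem Eb_le_Sb (T : Subgroup ↥M24) : Eb ≤ Sb T := by
  intro x hx
  obtain ⟨w, rfl⟩ := (mem_Eb_iff x).mp hx
  exact ⟨1, T.one_mem, w, rfl⟩

/-- the explicit Sylow 2-subgroup of `M24` (of order `2 ^ 10`) of `Helper3.FusM24` -/
noncomputable def T24 : Subgroup ↥M24 := (Cfsg.Agent.Lib.Helper3.FusM24.D.S).subgroupOf M24

/-- the image of `ξ` in `Co1` -/
noncomputable def xib : Cfsg.Spor.Co1 := toCo1 Cfsg.Agent.Lib.Helper3.Co1Gens.xiC

end Cfsg.Agent.Lib.Helper10.Co1O
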