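import Mathlib
import Cfsg.Agent.Lib.Helper10.Co1O.Defs
import Cfsg.Agent.Lib.Helper27.Co1.CO4a
import Cfsg.Agent.Lib.Helper6.Co1.CO4b
import Cfsg.Agent.Lib.Helper15.Co1.CO4c

set_option autoImplicit false

/-!
Every automorphism of the monomial group `Nb = 2^11 : M24` of `Co1` preserving `Eb` is inner
(assembly of the three pieces CO4a, CO4b, CO4c).
-/

namespace Cfsg.Agent.Lib.Helper10.Co1O

open Cfsg
open Cfsg.Agent.Lib.Helper15.Co1Leaf (inner_of_fix_Eb)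
open Cfsg.Agent.Lib.Helper6.Co1Leaf (fix_Eb_of_mod)

theorem aut_Nb_inner (β : MulAut ↥Nb)
    (hβ : ∀ x : ↥Nb, (x : Cfsg.Spor.Co1) ∈ Eb → ((β x : ↥Nb) : Cfsg.Spor.Co1) ∈ Eb) :
    ∃ n : ↥Nb, ∀ x : ↥Nb, β x = n * x * n⁻¹ := by
  obtain ⟨n, hn⟩ := Cfsg.Agent.Lib.Helper27.Co1Leaf.exists_conj_mod_Eb β hβ
  let β' : MulAut ↥Nb := MulAut.conj n⁻¹ * β
  have hβ' : ∀ x, β' x = n⁻¹ * β x * n := by
    intro x
    show MulAut.conj n⁻¹ (β x) = _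
    rw [MulAut.conj_apply, inv_inv]
  have h1 : ∀ x : ↥Nb, ((β' x * x⁻¹ : ↥Nb) : Cfsg.Spor.Co1) ∈ Eb := by
    intro x
    rw [hβ']
    exact hn x
  have h2 := fix_Eb_of_mod β' h1
  obtain ⟨e, -, h3⟩ := inner_of_fix_Eb β' h1 h2
  refine ⟨n * e, fun x => ?_⟩
  have h4 := h3 x
  rw [hβ'] at h4
  have h5 : β x = n * (n⁻¹ * β x * n) * n⁻¹ := by group
  rw [h5, h4]
  group

end Cfsg.Agent.Lib.Helper10.Co1O
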