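import Mathlib
import Cfsg.Agent.Lib.Helper10.Co1O.OffCert
import Cfsg.Agent.Lib.Helper14.LeechMono

set_option autoImplicit false

/-!
An additive subgroup of the code avoiding all nonzero sums of `k` given code words has at most
`4096 / 2 ^ k` elements.
-/

namespace Cfsg.Agent.Lib.Helper10.Co1O

open Cfsg
open Cfsg.Agent.Lib.Helper3.Golay

local notation "V24" => (GolayPt → ZMod 2)

theorem word_add_self (w : V24) : w + w = 0 := by
  funext i
  exact CharTwo.add_self_eq_zero _

theorem combosN_ne_nil (xs : List ℕ) : combosN xs ≠ [] := by
  cases xs with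
  | nil => simp [combosN]
  | cons x xs => simp [combosN, combosN_ne_nil xs]

theorem combosN_cons_tail (x : ℕ) (xs : List ℕ) :
    (combosN (x :: xs)).tail = (combosN xs).tail ++ (combosN xs).map (fun y => x ^^^ y) := by
  show (combosN xs ++ (combosN xs).map (fun y => x ^^^ y)).tail = _
  exact List.tail_append_of_ne_nil (combosN_ne_nil xs)

theorem combosN_head (xs : List ℕ) : 0 ∈ combosN xs := by
  induction xs with
  | nil => simp [combosN]
  | cons x xs ih => simp [combosN, ih]

theorem validB_iff (x : ℕ) : validB x = true ↔ x < 2 ^ 24 ∧ wordOf x ∈ golayCode := by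
  unfold validB
  rw [Bool.and_eq_true, Nat.blt_eq]
  constructor
  · rintro ⟨h1, h2⟩
    have h1' : x < 2 ^ 24 := by norm_num; exact h1
    exact ⟨h1', (wordOf_mem_iff h1').mpr (Nat.eq_of_beq_eq_true h2)⟩
  · rintro ⟨h1, h2⟩
    refine ⟨by norm_num at h1; exact h1, ?_⟩
    rw [(wordOf_mem_iff h1).mp h2]
    exact Nat.beq_refl _

theorem mem_sup_zmultiples (F : AddSubgroup V24) (w v : V24) :
    v ∈ F ⊔ AddSubgroup.zmultiples w ↔ v ∈ F ∨ v + w ∈ F := by
  rw [AddSubgroup.mem_sup]
  constructor
  · rintro ⟨f, hf, k, hk, rfl⟩
    obtain ⟨n, rfl⟩ := AddSubgroup.mem_zmultiples_iff.mp hk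
    rcases Int.emod_two_eq_zero_or_one n with h | h
    · left
      have : n • w = 0 := by
        have hn : n = 2 * (n / 2) := by omega
        rw [hn, mul_zsmul, two_zsmul, word_add_self]
      rw [this, add_zero]; exact hf
    · right
      have : n • w = w := by
        have hn : n = 2 * (n / 2) + 1 := by omega
        rw [hn, add_zsmul, mul_zsmul, two_zsmul, word_add_self, one_zsmul, zero_add]
      rw [this, add_assoc, word_add_self, add_zero]; exact hf
  · rintro (h | h)
    · exact ⟨v, h, 0, AddSubgroup.zero_mem _, add_zero v⟩
    · refine ⟨v + w, h, w, AddSubgroup.mem_zmultiples w, ?_⟩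
      rw [add_assoc, word_add_self, add_zero]

instance : Finite ↥(golayCode.toAddSubgroup) :=
  Finite.of_injective (fun x : ↥(golayCode.toAddSubgroup) => (x.1 : V24)) (fun _ _ h => Subtype.ext h)

theorem card_toAddSubgroup : Nat.card ↥(golayCode.toAddSubgroup) = 4096 :=
  Cfsg.Agent.Lib.Helper14.LeechMono.card_golayCode

theorem card_mul_pow_le (xs : List ℕ) : ∀ (F : AddSubgroup V24), F ≤ golayCode.toAddSubgroup →
    xs.all validB = true → (∀ y ∈ (combosN xs).tail, wordOf y ∉ F) →
    Nat.card F * 2 ^ xs.length ≤ 4096 := by
  induction xs with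
  | nil =>
    intro F hF _ _
    rw [List.length_nil, pow_zero, mul_one, ← card_toAddSubgroup]
    exact AddSubgroup.card_le_of_le hF
  | cons x xs ih =>
    intro F hF hv h
    rw [List.all_cons, Bool.and_eq_true] at hv
    obtain ⟨hx, hv'⟩ := hv
    obtain ⟨-, hxc⟩ := (validB_iff x).mp hx
    rw [combosN_cons_tail] at h
    set F' := F ⊔ AddSubgroup.zmultiples (wordOf x) with hF'
    have hF'le : F' ≤ golayCode.toAddSubgroup := by
      apply sup_le hF
      rw [AddSubgroup.zmultiples_le]
      exact hxc
    have hxF : wordOf x ∉ F := by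
      apply h
      rw [List.mem_append]
      right
      rw [List.mem_map]
      exact ⟨0, combosN_head xs, by simp⟩
    have h2 : ∀ y ∈ (combosN xs).tail, wordOf y ∉ F' := by
      intro y hy hmem
      rw [hF', mem_sup_zmultiples] at hmem
      rcases hmem with hm | hm
      · exact h y (List.mem_append_left _ hy) hm
      · apply h (x ^^^ y)
        · rw [List.mem_append]
          right
          rw [List.mem_map]
          exact ⟨y, List.mem_of_mem_tail hy, rfl⟩
        · rw [wordOf_xor, add_comm]; exact hm
    have h3 := ih F' hF'le hv' h2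
    have : Finite ↥F' := Finite.of_injective (fun z : ↥F' => (⟨z.1, hF'le z.2⟩ : ↥(golayCode.toAddSubgroup)))
      (fun _ _ hh => Subtype.ext (congrArg (fun q : ↥(golayCode.toAddSubgroup) => q.1) hh))
    have h4 : Nat.card F * 2 ≤ Nat.card F' := by
      have hinj : Function.Injective (fun p : ↥F × Bool =>
          (⟨if p.2 then p.1.1 + wordOf x else p.1.1, by
            by_cases hb : p.2 = true
            · rw [if_pos hb, hF', mem_sup_zmultiples]
              right
              rw [add_assoc, word_add_self, add_zero]; exact p.1.2
            · rw [if_neg hb, hF', mem_sup_zmultiples]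
              left; exact p.1.2⟩ : ↥F')) := by
        rintro ⟨⟨f, hf⟩, b⟩ ⟨⟨g, hg⟩, c⟩ hh
        have hh' : (if b then f + wordOf x else f) = (if c then g + wordOf x else g) :=
          congrArg Subtype.val hh
        cases b <;> cases c
        · simp only [Bool.false_eq_true, if_false] at hh'
          subst hh'; rfl
        · exfalso
          simp only [Bool.false_eq_true, if_false, if_true] at hh'
          apply hxF
          have : wordOf x = f + g := by
            rw [hh', add_comm g, add_assoc, word_add_self, add_zero]
          rw [this]; exact F.add_mem hf hg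
        · exfalso
          simp only [Bool.false_eq_true, if_false, if_true] at hh'
          apply hxF
          have : wordOf x = f + g := by
            rw [← hh', ← add_assoc, word_add_self, zero_add]
          rw [this]; exact F.add_mem hf hg
        · simp only [if_true] at hh'
          have : f = g := add_right_cancel hh'
          subst this; rfl
      have := Nat.card_le_card_of_injective _ hinj
      rw [Nat.card_prod, Nat.card_eq_fintype_card (α := Bool), Fintype.card_bool] at this
      exact this
    rw [List.length_cons, pow_succ]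
    calc Nat.card F * (2 ^ xs.length * 2) = (Nat.card F * 2) * 2 ^ xs.length := by ring
      _ ≤ Nat.card F' * 2 ^ xs.length := Nat.mul_le_mul_right _ h4
      _ ≤ 4096 := h3

end Cfsg.Agent.Lib.Helper10.Co1O
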