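import Mathlib
import Cfsg.Agent.Lib.Helper10.Co1O.Defs
import Cfsg.Agent.Lib.Helper10.Co1O.OffCert
import Cfsg.Agent.Lib.Helper10.Co1O.OffIdx

set_option autoImplicit false

/-!
The image `Eb` of the sign changes is the only elementary abelian normal subgroup of order `2 ^ 11`
of the Sylow 2-subgroup `Sb T24` of the monomial group of `Co1`.
-/

namespace Cfsg.Agent.Lib.Helper10.Co1O

open Cfsg
open Cfsg.Agent.Lib.Helper14.LeechMono
open Cfsg.Agent.Lib.Helper14.Co0Center
open Cfsg.Agent.Lib.Helper3.Golay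
open Cfsg.Agent.Lib.Helper3.Fus
open Cfsg.Agent.Lib.Helper3.FusM24

local notation "V24" => (GolayPt → ZMod 2)

/-! ### translation between words and masks -/

theorem wordOf_full : wordOf 16777215 = (1 : V24) := by
  funext p
  rw [wordOf_apply]
  have h : (16777215 : ℕ) = 2 ^ 24 - 1 := by norm_num
  rw [h, Nat.testBit_two_pow_sub_one]
  have := idx_lt p
  simp [this]

theorem pmN_lt (σ : Equiv.Perm GolayPt) (y : ℕ) : pmN (codeOf σ) y < 2 ^ 24 :=
  pmAux_lt _ _ _ (fun _ hi => (hasN_codeOf σ).lt hi)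

theorem permWord_pmN (σ : Equiv.Perm GolayPt) (y : ℕ) :
    permWord σ (wordOf y) = wordOf (pmN (codeOf σ) y) :=
  permWord_wordOf σ (lookN (codeOf σ)) (hasN_codeOf σ) y

theorem fix_of_act (σ : ↥M24) (y : ℕ) (hy : y < 2 ^ 24) (hc : wordOf y ∈ golayCode)
    (h : actW σ ⟨wordOf y, hc⟩ = ⟨wordOf y, hc⟩ ∨ actW σ ⟨wordOf y, hc⟩ = ⟨wordOf y, hc⟩ + oneW) :
    fixB (codeOf σ.1) y = true := by
  unfold fixB
  rw [Bool.or_eq_true]
  rcases h with h | h
  · left
    have h1 : permWord σ.1 (wordOf y) = wordOf y := congrArg Subtype.val h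
    rw [permWord_pmN] at h1
    rw [wordOf_injective (pmN_lt σ.1 y) hy h1]
    exact Nat.beq_refl _
  · right
    have h1 : permWord σ.1 (wordOf y) = wordOf y + 1 := congrArg Subtype.val h
    rw [permWord_pmN, ← wordOf_full, ← wordOf_xor] at h1
    have hlt : y ^^^ 16777215 < 2 ^ 24 := Nat.xor_lt_two_pow hy (by norm_num)
    rw [wordOf_injective (pmN_lt σ.1 y) hlt h1]
    exact Nat.beq_refl _

theorem combosN_lt (xs : List ℕ) (h : xs.all validB = true) : ∀ y ∈ combosN xs, y < 2 ^ 24 := by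
  induction xs with
  | nil =>
    intro y hy
    simp only [combosN, List.mem_singleton] at hy
    rw [hy]; norm_num
  | cons x xs ih =>
    intro y hy
    rw [List.all_cons, Bool.and_eq_true] at h
    obtain ⟨hx, hxs⟩ := h
    obtain ⟨hx1, -⟩ := (validB_iff x).mp hx
    simp only [combosN, List.mem_append, List.mem_map] at hy
    rcases hy with hy | ⟨z, hz, rfl⟩
    · exact ih hxs y hy
    · exact Nat.xor_lt_two_pow hx1 (ih hxs z hz)

theorem basis_valid : basisList.all validB = true := by decide +kernel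

/-! ### general facts -/

theorem card_le_of_codes (P : Set ↥M24) (l : List ℕ) (h : ∀ σ ∈ P, codeOf σ.1 ∈ l) :
    Nat.card ↥P ≤ l.length := by
  have hinj : Function.Injective (fun σ : ↥P => (⟨codeOf σ.1.1, h σ.1 σ.2⟩ : {n // n ∈ l})) := by
    intro σ τ hh
    have h1 : codeOf σ.1.1 = codeOf τ.1.1 := congrArg Subtype.val hh
    exact Subtype.ext (Subtype.ext (codeOf_injective h1))
  have h2 := Nat.card_le_card_of_injective _ hinj
  rw [Nat.card_eq_fintype_card (α := {n // n ∈ l}),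
    Fintype.card_of_subtype l.toFinset (by simp)] at h2
  exact h2.trans (List.toFinset_card_le l)

theorem neg_word (v : V24) : -v = v := by
  funext i
  have : ∀ a : ZMod 2, -a = a := by decide
  exact this (v i)

theorem oneW_ne_zero : oneW ≠ 0 := by
  intro h
  have h1 := congrArg (fun w : ↥golayCode => w.1 (pt 0)) h
  have h2 : (1 : ZMod 2) = 0 := h1
  exact one_ne_zero h2

theorem cancel_mid (u u' w c c' : ↥golayCode) (h : u + w + c = u' + w + c') :
    u = u' + (c' + c) := by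
  have h1 : u = (u + w + c) + (w + c) := by
    rw [add_assoc u w c, add_assoc u (w + c) (w + c), add_self_code, add_zero]
  rw [h1, h, add_assoc u' w c', add_assoc u' (w + c') (w + c), add_add_add_comm, add_self_code,
    zero_add]

/-! ### the offender -/

section

variable (A : Subgroup Cfsg.Spor.Co1)

/-- the permutation parts of the elements of `A` -/
def AbSet : Set ↥M24 := {σ | ∃ w, mon σ w ∈ A}

/-- the sign changes in `A` -/
def A0 : AddSubgroup V24 where
  carrier := {v | ∃ h : v ∈ golayCode, mon 1 ⟨v, h⟩ ∈ A}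
  zero_mem' := ⟨golayCode.zero_mem, by
    have : (⟨0, golayCode.zero_mem⟩ : ↥golayCode) = 0 := rfl
    rw [this, mon_one]; exact A.one_mem⟩
  add_mem' := by
    rintro v u ⟨hv, hv'⟩ ⟨hu, hu'⟩
    refine ⟨golayCode.add_mem hv hu, ?_⟩
    have h := A.mul_mem hv' hu'
    rw [mon_mul, mul_one, actW_one] at h
    exact h
  neg_mem' := by
    rintro v ⟨hv, hv'⟩
    rw [neg_word]
    exact ⟨hv, hv'⟩

theorem mem_A0_iff (v : V24) : v ∈ A0 A ↔ ∃ h : v ∈ golayCode, mon 1 ⟨v, h⟩ ∈ A := Iff.rfl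

theorem mem_A0_of (w : ↥golayCode) (h : mon 1 w ∈ A) : w.1 ∈ A0 A := ⟨w.2, h⟩

theorem A0_le : A0 A ≤ golayCode.toAddSubgroup := by
  rintro v ⟨hv, -⟩
  exact hv

variable {A}
variable (hA : A ≤ Sb T24) (hnorm : ∀ s ∈ Sb T24, ∀ a ∈ A, s * a * s⁻¹ ∈ A)
  (hexp : ∀ a ∈ A, a * a = 1)

include hexp in
theorem comm_of_exp (a b : Cfsg.Spor.Co1) (ha : a ∈ A) (hb : b ∈ A) : a * b = b * a := by
  have h1 : a⁻¹ = a := inv_eq_of_mul_eq_one_right (hexp a ha)
  have h2 : b⁻¹ = b := inv_eq_of_mul_eq_one_right (hexp b hb)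
  have h3 : (a * b)⁻¹ = a * b := inv_eq_of_mul_eq_one_right (hexp _ (A.mul_mem ha hb))
  rw [← h3, mul_inv_rev, h1, h2]

include hA hexp in
/-- F1 -/
theorem mem_T24_of_mem_AbSet (σ : ↥M24) (hσ : σ ∈ AbSet A) : σ ∈ T24 ∧ σ * σ = 1 := by
  obtain ⟨w, hw⟩ := hσ
  constructor
  · obtain ⟨τ, hτ, u, hu⟩ := hA hw
    have := ((mon_eq_iff τ σ u w).mp hu).1
    rw [← this]; exact hτ
  · have h := hexp _ hw
    rw [mon_mul] at h
    exact ((mon_eq_one_iff _ _).mp h).1

include hexp in
/-- F2 -/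
theorem act_of_mem_A0 (σ : ↥M24) (hσ : σ ∈ AbSet A) (v : ↥golayCode) (hv : mon 1 v ∈ A) :
    actW σ v = v ∨ actW σ v = v + oneW := by
  obtain ⟨w, hw⟩ := hσ
  have h1 := mon_conj σ w v
  have h2 : mon σ w * mon 1 v * (mon σ w)⁻¹ = mon 1 v := by
    rw [comm_of_exp hexp _ _ hw hv, mul_assoc, mul_inv_cancel, mul_one]
  rw [h2] at h1
  exact ((mon_eq_iff 1 1 (actW σ v) v).mp h1.symm).2

include hnorm in
/-- F3 -/
theorem add_act_mem_A0 (σ : ↥M24) (hσ : σ ∈ AbSet A) (u : ↥golayCode) :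
    mon 1 (u + actW σ u) ∈ A := by
  obtain ⟨w, hw⟩ := hσ
  have h1 : mon 1 u ∈ Sb T24 := Eb_le_Sb T24 (mon_mem_Eb u)
  have h2 := A.mul_mem (hnorm _ h1 _ hw) (A.inv_mem hw)
  have h3 : mon 1 u * mon σ w * (mon 1 u)⁻¹ * (mon σ w)⁻¹ = mon 1 (u + actW σ u) := by
    rw [mon_inv, mon_inv, mon_mul, mon_mul, mon_mul]
    simp only [one_mul, mul_one, inv_one, actW_one, mul_inv_cancel]
    rw [← actW_mul, mul_inv_cancel, actW_one]
    congr 1
    rw [add_assoc u w, add_comm w, add_assoc, add_assoc, add_self_code, add_zero]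
  rw [h3] at h2
  exact h2

include hA in
/-- F4 -/
theorem card_mul_two_le : Nat.card ↥A * 2 ≤ Nat.card ↥(AbSet A) * Nat.card ↥(A0 A) := by
  classical
  -- choices
  have hw : ∀ σ : ↥(AbSet A), ∃ w, mon σ.1 w ∈ A := fun σ => σ.2
  choose wOf hwOf using hw
  have hp : ∀ a : ↥A, ∃ σ : ↥M24, ∃ u, mon σ u = a.1 := by
    intro a
    obtain ⟨σ, -, u, hu⟩ := hA a.2
    exact ⟨σ, u, hu⟩
  choose pOf hp2 using hp
  choose uOf huOf using hp2
  have hmem : ∀ a : ↥A, pOf a ∈ AbSet A := fun a => ⟨uOf a, by rw [huOf a]; exact a.2⟩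
  have hv : ∀ a : ↥A, mon 1 (uOf a + wOf ⟨pOf a, hmem a⟩) ∈ A := by
    intro a
    have h1 := A.mul_mem a.2 (A.inv_mem (hwOf ⟨pOf a, hmem a⟩))
    rw [← huOf a, mon_inv, mon_mul, mul_inv_cancel, ← actW_mul, mul_inv_cancel, actW_one] at h1
    exact h1
  have hv' : ∀ (a : ↥A) (b : Bool),
      mon 1 (uOf a + wOf ⟨pOf a, hmem a⟩ + (if b then oneW else 0)) ∈ A := by
    intro a b
    cases b
    · simp only [Bool.false_eq_true, if_false, add_zero]; exact hv a
    · simp only [if_true]; rw [mon_add_oneW]; exact hv a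
  let f : ↥A × Bool → ↥(AbSet A) × ↥(A0 A) := fun p =>
    (⟨pOf p.1, hmem p.1⟩,
     ⟨(uOf p.1 + wOf ⟨pOf p.1, hmem p.1⟩ + (if p.2 then oneW else 0)).1,
      mem_A0_of A _ (hv' p.1 p.2)⟩)
  have hinj : Function.Injective f := by
    rintro ⟨a, b⟩ ⟨a', b'⟩ hh
    have h1 : pOf a = pOf a' := congrArg (fun q : ↥(AbSet A) × ↥(A0 A) => q.1.1) hh
    have h2 : (uOf a + wOf ⟨pOf a, hmem a⟩ + (if b then oneW else 0)).1 =
        (uOf a' + wOf ⟨pOf a', hmem a'⟩ + (if b' then oneW else 0)).1 :=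
      congrArg (fun q : ↥(AbSet A) × ↥(A0 A) => q.2.1) hh
    have h2' := Subtype.ext h2
    have h3 : wOf ⟨pOf a, hmem a⟩ = wOf ⟨pOf a', hmem a'⟩ := by
      congr 1
      exact Subtype.ext h1
    rw [h3] at h2'
    have h5 := cancel_mid _ _ _ _ _ h2'
    have h4 : mon (pOf a) (uOf a) = mon (pOf a') (uOf a') := by
      rw [h1, h5]
      cases b <;> cases b'
      · simp only [Bool.false_eq_true, if_false, add_zero]
      · simp only [Bool.false_eq_true, if_false, if_true, add_zero]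
        exact mon_add_oneW _ _
      · simp only [Bool.false_eq_true, if_false, if_true, zero_add]
        exact mon_add_oneW _ _
      · simp only [if_true, add_self_code, add_zero]
    have hab : a = a' := Subtype.ext (by rw [← huOf a, ← huOf a', h4])
    subst hab
    have h6 : (if b then oneW else 0) = (if b' then oneW else 0) := add_left_cancel h2'
    have hbb : b = b' := by
      cases b <;> cases b'
      · rfl
      · exfalso
        simp only [Bool.false_eq_true, if_false, if_true] at h6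
        exact oneW_ne_zero h6.symm
      · exfalso
        simp only [Bool.false_eq_true, if_false, if_true] at h6
        exact oneW_ne_zero h6
      · rfl
    rw [hbb]
  have h := Nat.card_le_card_of_injective f hinj
  rw [Nat.card_prod, Nat.card_prod, Nat.card_eq_fintype_card (α := Bool), Fintype.card_bool] at h
  exact h

/-! ### involutions and quadratic pairs -/

include hA hexp in
theorem code_mem_invL (σ : ↥M24) (hσ : σ ∈ AbSet A) (h1 : σ ≠ 1) : codeOf σ.1 ∈ invL := by
  obtain ⟨hT, hsq⟩ := mem_T24_of_mem_AbSet hA hexp σ hσ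
  unfold invL
  rw [List.mem_filter]
  constructor
  · have h2 : σ.1 ∈ D.S := Subgroup.mem_subgroupOf.mp hT
    exact D.mem_L h2
  · unfold isInvN
    rw [Bool.and_eq_true]
    constructor
    · rw [← codeOf_mul, ← codeOf_one]
      have h2 : σ.1 * σ.1 = 1 := congrArg Subtype.val hsq
      rw [h2]; exact Nat.beq_refl _
    · rw [Bool.not_eq_true']
      by_contra hcon
      rw [Bool.not_eq_false] at hcon
      have h2 := Nat.eq_of_beq_eq_true hcon
      rw [← codeOf_one] at h2
      exact h1 (Subtype.ext (codeOf_injective h2))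

include hnorm hexp in
theorem quadB_of_mem (σ τ : ↥M24) (hσ : σ ∈ AbSet A) (hτ : τ ∈ AbSet A) :
    quadB (codeOf σ.1) (codeOf τ.1) = true := by
  unfold quadB imL
  rw [List.all_eq_true]
  intro x hx
  rw [List.mem_map] at hx
  obtain ⟨b, hb, rfl⟩ := hx
  have hbv := List.all_eq_true.mp basis_valid b hb
  obtain ⟨hb1, hb2⟩ := (validB_iff b).mp hbv
  have h3 := add_act_mem_A0 hnorm σ hσ ⟨wordOf b, hb2⟩
  have hval : (⟨wordOf b, hb2⟩ + actW σ ⟨wordOf b, hb2⟩ : ↥golayCode).1 =
      wordOf (b ^^^ pmN (codeOf σ.1) b) := by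
    rw [wordOf_xor, ← permWord_pmN]; rfl
  have hc : wordOf (b ^^^ pmN (codeOf σ.1) b) ∈ golayCode := by
    rw [← hval]; exact Subtype.property _
  have heq : (⟨wordOf b, hb2⟩ + actW σ ⟨wordOf b, hb2⟩ : ↥golayCode) =
      ⟨wordOf (b ^^^ pmN (codeOf σ.1) b), hc⟩ := Subtype.ext hval
  rw [heq] at h3
  exact fix_of_act τ _ (Nat.xor_lt_two_pow hb1 (pmN_lt σ.1 b)) hc
    (act_of_mem_A0 hexp τ hτ _ h3)

include hA hnorm hexp in
theorem code_mem_partners (σ τ : ↥M24) (hσ : σ ∈ AbSet A) (hτ : τ ∈ AbSet A) (hτ1 : τ ≠ 1)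
    (hne : τ ≠ σ) : codeOf τ.1 ∈ partnersL (codeOf σ.1) := by
  unfold partnersL
  rw [List.mem_filter, Bool.and_eq_true]
  refine ⟨code_mem_invL hA hexp τ hτ hτ1, ?_, quadB_of_mem hnorm hexp σ τ hσ hτ⟩
  rw [Bool.not_eq_true']
  by_contra hcon
  rw [Bool.not_eq_false] at hcon
  have h2 := Nat.eq_of_beq_eq_true hcon
  exact hne (Subtype.ext (codeOf_injective h2))

include hexp in
theorem not_mem_A0_of_not_fix (σ : ↥M24) (hσ : σ ∈ AbSet A) (y : ℕ) (hy : y < 2 ^ 24)
    (hf : fixB (codeOf σ.1) y = false) : wordOf y ∉ A0 A := by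
  rintro ⟨hc, hm⟩
  have h := fix_of_act σ y hy hc (act_of_mem_A0 hexp σ hσ _ hm)
  rw [hf] at h
  exact Bool.false_ne_true h

include hA hexp in
/-- F6 -/
theorem card_A0_mul_four (σ : ↥M24) (hσ : σ ∈ AbSet A) (h1 : σ ≠ 1) :
    Nat.card ↥(A0 A) * 4 ≤ 4096 := by
  have hn := code_mem_invL hA hexp σ hσ h1
  have hc := List.all_eq_true.mp certA _ hn
  rw [Bool.and_eq_true] at hc
  obtain ⟨hlen, hind⟩ := hc
  have hlen' : (lookA (codeOf σ.1)).length = 2 := Nat.eq_of_beq_eq_true hlen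
  unfold indepB at hind
  rw [Bool.and_eq_true] at hind
  obtain ⟨hval, hnf⟩ := hind
  have h := card_mul_pow_le (lookA (codeOf σ.1)) (A0 A) (A0_le A) hval (by
    intro y hy
    have hfix := List.all_eq_true.mp hnf y hy
    rw [Bool.not_eq_true'] at hfix
    exact not_mem_A0_of_not_fix hexp σ hσ y
      (combosN_lt _ hval y (List.mem_of_mem_tail hy)) hfix)
  rw [hlen'] at h
  exact h

include hA hnorm hexp in
/-- F7 -/
theorem card_A0_mul_32 (σ τ : ↥M24) (hσ : σ ∈ AbSet A) (hτ : τ ∈ AbSet A) (h1 : σ ≠ 1)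
    (hτ1 : τ ≠ 1) (hne : τ ≠ σ) : Nat.card ↥(A0 A) * 32 ≤ 4096 := by
  have hn := code_mem_invL hA hexp σ hσ h1
  have ht := code_mem_partners hA hnorm hexp σ τ hσ hτ hτ1 hne
  have hc := List.all_eq_true.mp (List.all_eq_true.mp certC _ hn) _ ht
  rw [Bool.and_eq_true] at hc
  obtain ⟨hlen, hind⟩ := hc
  have hlen' : (lookC (codeOf σ.1) (codeOf τ.1)).length = 5 := Nat.eq_of_beq_eq_true hlen
  unfold indepB at hind
  rw [Bool.and_eq_true] at hind
  obtain ⟨hval, hnf⟩ := hind
  have h := card_mul_pow_le (lookC (codeOf σ.1) (codeOf τ.1)) (A0 A) (A0_le A) hval (by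
    intro y hy
    have hfix := List.all_eq_true.mp hnf y hy
    rw [Bool.not_eq_true', Bool.and_eq_false_iff] at hfix
    have hylt := combosN_lt _ hval y (List.mem_of_mem_tail hy)
    rcases hfix with hfix | hfix
    · exact not_mem_A0_of_not_fix hexp σ hσ y hylt hfix
    · exact not_mem_A0_of_not_fix hexp τ hτ y hylt hfix)
  rw [hlen'] at h
  exact h

/-! ### the theorem -/

include hA hnorm hexp in
/-- **CO2**: the only elementary abelian normal subgroup of order `2 ^ 11` of `Sb T24` is `Eb`. -/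
theorem eq_Eb_of_normal (hcard : Nat.card ↥A = 2 ^ 11) : A = Eb := by
  have hF4 := card_mul_two_le hA
  rw [hcard] at hF4
  by_cases hall : ∀ σ ∈ AbSet A, σ = 1
  · -- all permutation parts are trivial
    have hAb : Nat.card ↥(AbSet A) ≤ 1 := by
      have := card_le_of_codes (AbSet A) [idN] (by
        intro σ hσ
        rw [hall σ hσ, List.mem_singleton]
        exact codeOf_one)
      simpa using this
    have hA0 : 4096 ≤ Nat.card ↥(A0 A) := by
      calc 4096 = 2 ^ 11 * 2 := by norm_num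
        _ ≤ Nat.card ↥(AbSet A) * Nat.card ↥(A0 A) := hF4
        _ ≤ 1 * Nat.card ↥(A0 A) := Nat.mul_le_mul_right _ hAb
        _ = Nat.card ↥(A0 A) := one_mul _
    have hA0eq : A0 A = golayCode.toAddSubgroup :=
      AddSubgroup.eq_of_le_of_card_ge (A0_le A) (by rw [card_toAddSubgroup]; exact hA0)
    apply le_antisymm
    · intro a ha
      obtain ⟨σ, -, w, hw⟩ := hA ha
      have hσ : σ ∈ AbSet A := ⟨w, by rw [hw]; exact ha⟩
      rw [hall σ hσ] at hw
      rw [← hw]
      exact mon_mem_Eb w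
    · intro e he
      obtain ⟨w, rfl⟩ := (mem_Eb_iff e).mp he
      have hw : w.1 ∈ A0 A := by rw [hA0eq]; exact w.2
      obtain ⟨_, hm⟩ := hw
      exact hm
  · exfalso
    push Not at hall
    obtain ⟨σ, hσ, h1⟩ := hall
    have h6 := card_A0_mul_four hA hexp σ hσ h1
    by_cases hall2 : ∀ τ ∈ AbSet A, τ = 1 ∨ τ = σ
    · have hAb : Nat.card ↥(AbSet A) ≤ 2 := by
        have := card_le_of_codes (AbSet A) [idN, codeOf σ.1] (by
          intro τ hτ
          rcases hall2 τ hτ with h | h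
          · rw [h]; exact List.mem_cons.mpr (Or.inl codeOf_one)
          · rw [h]; exact List.mem_cons_of_mem _ (List.mem_singleton.mpr rfl))
        simpa using this
      have h0 : Nat.card ↥(A0 A) ≤ 1024 := by omega
      have := Nat.mul_le_mul hAb h0
      omega
    · push Not at hall2
      obtain ⟨τ, hτ, hτ1, hne⟩ := hall2
      have h7 := card_A0_mul_32 hA hnorm hexp σ τ hσ hτ h1 hτ1 hne
      have hn := code_mem_invL hA hexp σ hσ h1
      have hB := List.all_eq_true.mp certB _ hn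
      have hB' : (partnersL (codeOf σ.1)).length ≤ 14 := Nat.le_of_ble_eq_true hB
      have hAb : Nat.card ↥(AbSet A) ≤ 16 := by
        have := card_le_of_codes (AbSet A) (idN :: codeOf σ.1 :: partnersL (codeOf σ.1)) (by
          intro ρ hρ
          by_cases hρ1 : ρ = 1
          · rw [hρ1]; exact List.mem_cons.mpr (Or.inl codeOf_one)
          · by_cases hρσ : ρ = σ
            · rw [hρσ]; exact List.mem_cons_of_mem _ (List.mem_cons.mpr (Or.inl rfl))
            · exact List.mem_cons_of_mem _ (List.mem_cons_of_mem _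
                (code_mem_partners hA hnorm hexp σ ρ hσ hρ hρ1 hρσ)))
        rw [List.length_cons, List.length_cons] at this
        omega
      have h0 : Nat.card ↥(A0 A) ≤ 128 := by omega
      have := Nat.mul_le_mul hAb h0
      omega

end

end Cfsg.Agent.Lib.Helper10.Co1O
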