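import Mathlib
import Cfsg.Agent.Lib.Helper10.Co1O.Defs
import Cfsg.Agent.Lib.Helper10.Co1O.Offender
import Cfsg.Agent.Lib.Helper10.Co1O.AutNb
import Cfsg.Agent.Lib.Helper8.Co1.CO1
import Cfsg.Agent.Lib.Helper8.Co1.CO3
import Cfsg.Agent.Lib.Helper9.Co1.CO5
import Cfsg.Agent.Lib.Helper7.Co1.CO6
import Cfsg.Agent.Lib.Helper3.OutAut.Basic

set_option autoImplicit false

/-!
Every automorphism of `Co1` is inner (assembly of the leaves): Sylow adjustment, the sign change
group `2^11` is the only normal elementary abelian subgroup of its order in the Sylow subgroup, the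
monomial group is its normaliser and has only inner automorphisms, and `ξ` is pinned down by the
intersection of the monomial group with its conjugate.
-/

namespace Cfsg.Agent.Lib.Helper10.Co1O

open Cfsg
open Cfsg.Agent.Lib.Helper14.Co0Center
open Cfsg.Agent.Lib.Helper3.Co1Stem
open Cfsg.Agent.Lib.Helper3.Co1Gens (xiC)
open Cfsg.Agent.Lib.Helper7.Co1Leaf (closure_Nt_xi)
open Cfsg.Agent.Lib.Helper8.Co1Leaf (card_Eb card_Sb card_T24 mem_Nt_of_conj)
open Cfsg.Agent.Lib.Helper9.Co1Leaf (W5 P5 xi_conj_sign xi_conj_perm W5_sep W5_rigid P5_rigid)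

local notation "G1" => Cfsg.Spor.Co1

instance : Finite G1 := by
  have h := card_Co1
  exact Nat.finite_of_card_ne_zero (by rw [h]; norm_num)

/-! ### Step 1: the Sylow subgroup -/

theorem card_Sb24 : Nat.card ↥(Sb T24) = 2 ^ 21 := by
  rw [card_Sb, card_T24]; norm_num

theorem factorization_Co1 : (Nat.card G1).factorization 2 = 21 := by
  rw [card_Co1]
  have h : (4157776806543360000 : ℕ) = 2 ^ 21 * 1982582476875 := by norm_num
  rw [h, Nat.factorization_mul (by norm_num) (by norm_num), Finsupp.add_apply,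
    Nat.Prime.factorization_pow Nat.prime_two, Finsupp.single_eq_same,
    Nat.factorization_eq_zero_of_not_dvd (by norm_num)]

/-- an automorphism maps `Sb T24` to a conjugate -/
theorem exists_conj_Sb (α : MulAut G1) :
    ∃ g : G1, ∀ x, x ∈ Sb T24 ↔ g * α x * g⁻¹ ∈ Sb T24 := by
  have : Fact (Nat.Prime 2) := ⟨Nat.prime_two⟩
  let P : Sylow 2 G1 := Sylow.ofCard (Sb T24) (by rw [card_Sb24, factorization_Co1])
  have hcardQ : Nat.card ↥((Sb T24).map α.toMonoidHom) = 2 ^ (Nat.card G1).factorization 2 := by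
    rw [factorization_Co1, ← card_Sb24]
    exact Nat.card_congr (Subgroup.equivMapOfInjective (Sb T24) α.toMonoidHom α.injective).symm.toEquiv
  let Q : Sylow 2 G1 := Sylow.ofCard ((Sb T24).map α.toMonoidHom) hcardQ
  obtain ⟨g, hg⟩ := MulAction.exists_smul_eq G1 Q P
  refine ⟨g, fun x => ?_⟩
  have h1 : ((g • Q : Sylow 2 G1) : Subgroup G1) = Sb T24 := by rw [hg]; rfl
  rw [Sylow.coe_subgroup_smul] at h1
  have hQ : (Q : Subgroup G1) = (Sb T24).map α.toMonoidHom := rfl
  rw [hQ] at h1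
  constructor
  · intro hx
    rw [← h1]
    rw [Subgroup.mem_pointwise_smul_iff_inv_smul_mem]
    rw [MulAut.smul_def, Subgroup.mem_map]
    refine ⟨x, hx, ?_⟩
    simp [mul_assoc]
  · intro hx
    rw [← h1, Subgroup.mem_pointwise_smul_iff_inv_smul_mem, MulAut.smul_def, Subgroup.mem_map] at hx
    obtain ⟨y, hy, hyx⟩ := hx
    have : α y = α x := by
      simpa [MulAut.conj_apply, mul_assoc] using hyx
    rwa [← α.injective this]

/-! ### Step 2: the sign change group is preserved -/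

theorem step2 (γ : MulAut G1) (hS : ∀ x, x ∈ Sb T24 ↔ γ x ∈ Sb T24) :
    ∀ x, x ∈ Eb ↔ γ x ∈ Eb := by
  have hAE : Eb.map γ.toMonoidHom = Eb := by
    apply eq_Eb_of_normal
    · rintro _ ⟨e, he, rfl⟩
      exact (hS e).mp (Eb_le_Sb T24 he)
    · rintro s hs _ ⟨e, he, rfl⟩
      have hs' : γ.symm s ∈ Sb T24 := by
        rw [hS, MulEquiv.apply_symm_apply]; exact hs
      refine ⟨γ.symm s * e * (γ.symm s)⁻¹, conj_mem_Eb _ (Sb_le_Nb T24 hs') e he, ?_⟩
      show γ (γ.symm s * e * (γ.symm s)⁻¹) = s * γ e * s⁻¹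
      rw [map_mul, map_mul, map_inv, MulEquiv.apply_symm_apply]
    · rintro _ ⟨e, he, rfl⟩
      show γ e * γ e = 1
      rw [← map_mul, mul_self_of_mem_Eb e he, map_one]
    · rw [← card_Eb]
      exact Nat.card_congr (Subgroup.equivMapOfInjective Eb γ.toMonoidHom γ.injective).symm.toEquiv
  intro x
  constructor
  · intro hx
    rw [← hAE]
    exact ⟨x, hx, rfl⟩
  · intro hx
    rw [← hAE] at hx
    obtain ⟨e, he, hex⟩ := hx
    have : e = x := γ.injective hex
    rwa [← this]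

/-! ### Step 3: the monomial group is preserved -/

/-- an element of `Co1` normalising the sign change group is monomial -/
theorem mem_Nb_of_normalizes (g : G1) (h : ∀ e ∈ Eb, g * e * g⁻¹ ∈ Eb) : g ∈ Nb := by
  obtain ⟨gt, rfl⟩ := toCo1_surjective g
  have hgt : gt ∈ Nt := by
    apply mem_Nt_of_conj Set.univ
    · intro i j hij
      obtain ⟨w, hw, h1, h2⟩ := exists_sep i j hij
      refine ⟨⟨w, hw⟩, Set.mem_univ _, ?_⟩
      show w i ≠ w j
      rw [h2]; exact h1
    · intro w _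
      have h1 := h (mon 1 w) (mon_mem_Eb w)
      obtain ⟨u, hu⟩ := (mem_Eb_iff _).mp h1
      have h2 : toCo1 (gt * monoC 1 w * gt⁻¹) = toCo1 (monoC 1 u) := by
        rw [map_mul, map_mul, map_inv]; exact hu.symm
      rcases (toCo1_eq_iff _ _).mp h2 with h3 | h3
      · exact ⟨u, h3⟩
      · exact ⟨u + oneW, by rw [h3, monoC_mul_negC]⟩
  exact Subgroup.mem_map_of_mem _ hgt

theorem step3_aux (γ : MulAut G1) (hE : ∀ x, x ∈ Eb ↔ γ x ∈ Eb) (x : G1) (hx : x ∈ Nb) :
    γ x ∈ Nb := by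
  apply mem_Nb_of_normalizes
  intro e he
  have he' : γ.symm e ∈ Eb := by
    rw [hE, MulEquiv.apply_symm_apply]; exact he
  have h1 := conj_mem_Eb x hx _ he'
  rw [hE, map_mul, map_mul, map_inv, MulEquiv.apply_symm_apply] at h1
  exact h1

theorem step3 (γ : MulAut G1) (hE : ∀ x, x ∈ Eb ↔ γ x ∈ Eb) : ∀ x, x ∈ Nb ↔ γ x ∈ Nb := by
  intro x
  constructor
  · exact step3_aux γ hE x
  · intro hx
    have hE' : ∀ y, y ∈ Eb ↔ γ.symm y ∈ Eb := by
      intro y
      rw [hE (γ.symm y), MulEquiv.apply_symm_apply]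
    have := step3_aux γ.symm hE' (γ x) hx
    rwa [MulEquiv.symm_apply_apply] at this

/-! ### Step 4: adjusting by an element of the monomial group -/

/-- the restriction of an automorphism preserving `Nb` -/
noncomputable def restrictNb (γ : MulAut G1) (hN : ∀ x, x ∈ Nb ↔ γ x ∈ Nb) : MulAut ↥Nb where
  toFun x := ⟨γ x.1, (hN x.1).mp x.2⟩
  invFun x := ⟨γ.symm x.1, by
    rw [hN, MulEquiv.apply_symm_apply]; exact x.2⟩
  left_inv x := Subtype.ext (MulEquiv.symm_apply_apply γ x.1)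
  right_inv x := Subtype.ext (MulEquiv.apply_symm_apply γ x.1)
  map_mul' x y := Subtype.ext (map_mul γ x.1 y.1)

theorem step4 (γ : MulAut G1) (hE : ∀ x, x ∈ Eb ↔ γ x ∈ Eb) (hN : ∀ x, x ∈ Nb ↔ γ x ∈ Nb) :
    ∃ n : G1, ∀ x ∈ Nb, n⁻¹ * γ x * n = x := by
  obtain ⟨n, hn⟩ := aut_Nb_inner (restrictNb γ hN) (fun x hx => (hE x.1).mp hx)
  refine ⟨n.1, fun x hx => ?_⟩
  have h1 := congrArg Subtype.val (hn ⟨x, hx⟩)
  have h2 : γ x = n.1 * x * n.1⁻¹ := h1
  rw [h2]; group

/-! ### Step 5: `ξ` is fixed -/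

theorem step5 (γ : MulAut G1) (hfix : ∀ x ∈ Nb, γ x = x) : γ xib = xib := by
  -- the element `c = ξ⁻¹ γ(ξ)` centralises the image of every monomial `k` with `ξ k ξ⁻¹` monomial
  have hcent : ∀ k : ↥Co0, k ∈ Nt → xiC * k * xiC⁻¹ ∈ Nt →
      (xib⁻¹ * γ xib) * toCo1 k * (xib⁻¹ * γ xib)⁻¹ = toCo1 k := by
    intro k hk hk'
    have h1 : γ (toCo1 (xiC * k * xiC⁻¹)) = toCo1 (xiC * k * xiC⁻¹) :=
      hfix _ (Subgroup.mem_map_of_mem _ hk')
    have h2 : γ (toCo1 k) = toCo1 k := hfix _ (Subgroup.mem_map_of_mem _ hk)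
    rw [map_mul, map_mul, map_inv, map_mul, map_mul, map_inv, h2] at h1
    have h3 : toCo1 xiC = xib := rfl
    rw [h3] at h1
    calc (xib⁻¹ * γ xib) * toCo1 k * (xib⁻¹ * γ xib)⁻¹
        = xib⁻¹ * (γ xib * toCo1 k * (γ xib)⁻¹) * xib := by group
      _ = xib⁻¹ * (xib * toCo1 k * xib⁻¹) * xib := by rw [h1]
      _ = toCo1 k := by group
  obtain ⟨ct, hct⟩ := toCo1_surjective (xib⁻¹ * γ xib)
  rw [← hct] at hcent
  -- lifted to `Co0`
  have hlift : ∀ k : ↥Co0, k ∈ Nt → xiC * k * xiC⁻¹ ∈ Nt →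
      ct * k * ct⁻¹ = k ∨ ct * k * ct⁻¹ = k * negC := by
    intro k hk hk'
    have := hcent k hk hk'
    rw [← map_inv, ← map_mul, ← map_mul] at this
    exact (toCo1_eq_iff _ _).mp this
  -- `ct` is monomial
  have hctN : ct ∈ Nt := by
    apply mem_Nt_of_conj {w | w ∈ W5}
    · intro i j hij
      obtain ⟨w, hw, h⟩ := W5_sep i j hij
      exact ⟨w, hw, h⟩
    · intro w hw
      rcases hlift (monoC 1 w) (monoC_mem_Nt 1 w) (xi_conj_sign w hw) with h | h
      · exact ⟨w, h⟩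
      · exact ⟨w + oneW, by rw [h, monoC_mul_negC]⟩
  obtain ⟨σ, u, rfl⟩ := hctN
  -- its permutation part is trivial
  have hσ : σ = 1 := by
    apply W5_rigid
    intro w hw
    rcases hlift (monoC 1 w) (monoC_mem_Nt 1 w) (xi_conj_sign w hw) with h | h
    · rw [monoC_conj] at h
      exact Or.inl (monoC_injective _ _ _ _ h).2
    · rw [monoC_conj, monoC_mul_negC] at h
      exact Or.inr (monoC_injective _ _ _ _ h).2
  subst hσ
  -- its sign part is trivial
  have hu : u = 0 ∨ u = oneW := by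
    apply P5_rigid
    intro τ hτ
    have hinv : (monoC 1 u)⁻¹ = monoC 1 u := by
      rw [monoC_inv, inv_one, actW_one]
    have hconj : monoC 1 u * monoC τ 0 * (monoC 1 u)⁻¹ = monoC τ (u + actW τ u) := by
      rw [hinv, monoC_mul, monoC_mul, one_mul, mul_one, actW_one, add_zero]
    rcases hlift (monoC τ 0) (monoC_mem_Nt τ 0) (xi_conj_perm τ hτ) with h | h
    · rw [hconj] at h
      have h1 := (monoC_injective _ _ _ _ h).2
      left
      have : actW τ u = u + (u + actW τ u) := by rw [← add_assoc, add_self_code, zero_add]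
      rw [this, h1, add_zero]
    · rw [hconj, monoC_mul_negC, zero_add] at h
      have h1 := (monoC_injective _ _ _ _ h).2
      right
      have : actW τ u = u + (u + actW τ u) := by rw [← add_assoc, add_self_code, zero_add]
      rw [this, h1]
  have hc1 : xib⁻¹ * γ xib = 1 := by
    rw [← hct]
    rcases hu with rfl | rfl
    · rw [monoC_one, map_one]
    · exact mon_oneW
  exact (inv_mul_eq_one.mp hc1).symm

/-! ### Step 6: everything is fixed -/

theorem step6 (γ : MulAut G1) (hfix : ∀ x ∈ Nb, γ x = x) (hxi : γ xib = xib) : ∀ x, γ x = x := by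
  let F : Subgroup G1 :=
    { carrier := {x | γ x = x}
      one_mem' := map_one γ
      mul_mem' := fun {a b} ha hb => by
        show γ (a * b) = a * b
        rw [map_mul, ha, hb]
      inv_mem' := fun {a} ha => by
        show γ a⁻¹ = a⁻¹
        rw [map_inv, ha] }
  have hle : Subgroup.closure ((Nt : Set ↥Co0) ∪ {xiC}) ≤ F.comap toCo1 := by
    rw [Subgroup.closure_le]
    rintro k (hk | hk)
    · exact hfix _ (Subgroup.mem_map_of_mem _ hk)
    · rw [Set.mem_singleton_iff] at hk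
      subst hk
      exact hxi
  rw [closure_Nt_xi] at hle
  intro x
  obtain ⟨xt, rfl⟩ := toCo1_surjective x
  exact hle (Subgroup.mem_top xt)

/-! ### the theorem -/

theorem aut_inner (α : MulAut G1) : ∃ g : G1, α = MulAut.conj g := by
  obtain ⟨g, hg⟩ := exists_conj_Sb α
  let α1 : MulAut G1 := MulAut.conj g * α
  have hα1 : ∀ x, α1 x = g * α x * g⁻¹ := fun x => rfl
  have hS : ∀ x, x ∈ Sb T24 ↔ α1 x ∈ Sb T24 := hg
  have hE := step2 α1 hS
  have hN := step3 α1 hE
  obtain ⟨n, hn⟩ := step4 α1 hE hN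
  let α2 : MulAut G1 := MulAut.conj n⁻¹ * α1
  have hα2 : ∀ x, α2 x = n⁻¹ * α1 x * n := fun x => by
    show n⁻¹ * α1 x * n⁻¹⁻¹ = _
    rw [inv_inv]
  have hfix : ∀ x ∈ Nb, α2 x = x := fun x hx => by rw [hα2]; exact hn x hx
  have hxi := step5 α2 hfix
  have hall := step6 α2 hfix hxi
  refine ⟨g⁻¹ * n, ?_⟩
  ext x
  have h1 := hall x
  rw [hα2, hα1] at h1
  rw [MulAut.conj_apply]
  have : α x = g⁻¹ * (n * (n⁻¹ * (g * α x * g⁻¹) * n) * n⁻¹) * g := by group
  rw [this, h1]; group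

theorem card_out_Co1 : Nat.card (Cfsg.Out G1) = 1 :=
  Cfsg.Agent.Lib.Helper3.OutAut.card_out_eq_one aut_inner

end Cfsg.Agent.Lib.Helper10.Co1O
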